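import Groth.Prelude.Def_Wider
import Mathlib.Algebra.Module.Injective
import Mathlib.Algebra.Category.ModuleCat.EnoughInjectives
import Mathlib.Algebra.Category.ModuleCat.Injective
import Mathlib.RingTheory.Ideal.AssociatedPrime.Basic

/-!
# Essential extensions and injective hulls
-/

universe u

open CategoryTheory InjHull

namespace Groth.Agent.InjHullBasic

variable {R : Type u} [CommRing R] {M E I P : Type u} [AddCommGroup M] [Module R M]
  [AddCommGroup E] [Module R E] [AddCommGroup I] [Module R I] [AddCommGroup P] [Module R P]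

lemma exists_smul_mem_range {f : M →ₗ[R] E} (h : IsEssentialInj f) {y : E} (hy : y ≠ 0) :
    ∃ (r : R) (x : M), f x = r • y ∧ r • y ≠ 0 := by
  obtain ⟨z, hz, hz0⟩ := Submodule.exists_mem_ne_zero_of_ne_bot
    (h.essential (R ∙ y) (by simpa using hy))
  obtain ⟨hzy, x, rfl⟩ := hz
  obtain ⟨r, hr⟩ := Submodule.mem_span_singleton.mp hzy
  exact ⟨r, x, hr.symm, hr ▸ hz0⟩

lemma isEssentialInj_of_exists_smul {f : M →ₗ[R] E} (hf : Function.Injective f)
    (h : ∀ y : E, y ≠ 0 → ∃ (r : R) (x : M), f x = r • y ∧ r • y ≠ 0) : IsEssentialInj f := by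
  refine ⟨hf, fun N hN hbot => ?_⟩
  obtain ⟨y, hy, hy0⟩ := Submodule.exists_mem_ne_zero_of_ne_bot hN
  obtain ⟨r, x, hx, hr⟩ := h y hy0
  exact hr ((Submodule.eq_bot_iff _).mp hbot _ ⟨N.smul_mem r hy, x, hx⟩)

lemma injective_of_comp {f : M →ₗ[R] E} (h : IsEssentialInj f) (g : E →ₗ[R] P)
    (hg : Function.Injective (g ∘ₗ f)) : Function.Injective g := by
  refine (injective_iff_map_eq_zero g).mpr fun y hy => by_contra fun hy0 => ?_
  obtain ⟨r, x, hx, hr⟩ := exists_smul_mem_range h hy0
  have : (g ∘ₗ f) x = 0 := by rw [LinearMap.comp_apply, hx, map_smul, hy, smul_zero]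
  rw [(map_eq_zero_iff _ hg).mp this, map_zero] at hx
  exact hr hx.symm

lemma isEssentialInj_comp {f : M →ₗ[R] E} {g : E →ₗ[R] P} (hf : IsEssentialInj f)
    (hg : IsEssentialInj g) : IsEssentialInj (g ∘ₗ f) := by
  refine isEssentialInj_of_exists_smul (hg.injective.comp hf.injective) fun y hy => ?_
  obtain ⟨r, e, he, hr⟩ := exists_smul_mem_range hg hy
  obtain ⟨s, x, hx, hs⟩ := exists_smul_mem_range hf (y := e)
    fun h => hr (by rw [← he, h, map_zero])
  refine ⟨s * r, x, ?_, ?_⟩
  · rw [LinearMap.comp_apply, hx, map_smul, he, mul_smul]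
  · rw [mul_smul, ← he, ← map_smul]
    exact fun h => hs ((map_eq_zero_iff _ hg.injective).mp h)

/-- A map out of an essential extension is essential if its range contains an essential submodule. -/
lemma isEssentialInj_of_comp {f : M →ₗ[R] E} {g : E →ₗ[R] P} (hg : Function.Injective g)
    (h : IsEssentialInj (g ∘ₗ f)) : IsEssentialInj g := by
  refine isEssentialInj_of_exists_smul hg fun y hy => ?_
  obtain ⟨r, x, hx, hr⟩ := exists_smul_mem_range h hy
  exact ⟨r, f x, hx, hr⟩

lemma isEssentialInj_linearEquiv (e : E ≃ₗ[R] P) : IsEssentialInj e.toLinearMap :=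
  isEssentialInj_of_exists_smul e.injective fun y hy =>
    ⟨1, e.symm y, by simp, by simpa using hy⟩

/-- Retracts of injective modules are injective. -/
lemma injective_of_retract [Module.Injective R I] (i : E →ₗ[R] I) (s : I →ₗ[R] E)
    (h : ∀ x, s (i x) = x) : Module.Injective R E := by
  refine ⟨fun X Y _ _ _ _ g hg φ => ?_⟩
  obtain ⟨ψ, hψ⟩ := Module.Injective.extension_property R I X Y g hg (i ∘ₗ φ)
  refine ⟨s ∘ₗ ψ, fun x => ?_⟩
  have := LinearMap.congr_fun hψ x
  simp only [LinearMap.comp_apply] at this ⊢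
  rw [this, h]

lemma injective_of_linearEquiv [Module.Injective R I] (e : I ≃ₗ[R] E) : Module.Injective R E :=
  injective_of_retract e.symm.toLinearMap e.toLinearMap e.apply_symm_apply

lemma exists_retraction [Module.Injective R E] (i : E →ₗ[R] I) (hi : Function.Injective i) :
    ∃ s : I →ₗ[R] E, (∀ x, s (i x) = x) ∧ IsCompl (LinearMap.range i) (LinearMap.ker s) := by
  obtain ⟨s, hs⟩ := Module.Injective.extension_property R E E I i hi LinearMap.id
  have hs' : ∀ x, s (i x) = x := LinearMap.congr_fun hs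
  refine ⟨s, hs', ?_, ?_⟩
  · rw [Submodule.disjoint_def]
    rintro _ ⟨x, rfl⟩ hx
    rw [LinearMap.mem_ker, hs'] at hx
    rw [hx, map_zero]
  · rw [codisjoint_iff, eq_top_iff]
    intro y _
    exact Submodule.mem_sup.mpr ⟨i (s y), ⟨_, rfl⟩, y - i (s y),
      by rw [LinearMap.mem_ker, map_sub, hs', sub_self], add_sub_cancel _ _⟩

lemma exists_injective_embedding (R : Type u) [CommRing R] (M : Type u) [AddCommGroup M]
    [Module R M] : ∃ (I : Type u) (_ : AddCommGroup I) (_ : Module R I) (i : M →ₗ[R] I),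
      Module.Injective R I ∧ Function.Injective i := by
  let J := Injective.under (ModuleCat.of R M)
  have : Injective (ModuleCat.of R (J : Type u)) := inferInstanceAs (Injective J)
  exact ⟨J, inferInstance, inferInstance, (Injective.ι (ModuleCat.of R M)).hom,
    Module.injective_module_of_injective_object R J,
    (ModuleCat.mono_iff_injective _).mp (Injective.ι_mono _)⟩

/-- A submodule of an injective module without proper essential extensions inside it is injective. -/
theorem injective_of_maximal [Module.Injective R I] (E : Submodule R I)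
    (h : ∀ E' : Submodule R I, E ≤ E' → (∀ N : Submodule R I, N ≤ E' → N ≠ ⊥ → N ⊓ E ≠ ⊥) →
      E' = E) : Module.Injective R E := by
  obtain ⟨N, -, hN⟩ := zorn_le_nonempty₀ {N : Submodule R I | Disjoint N E}
    (fun c hc hchain y hy => ⟨sSup c, by
      change Disjoint (sSup c) E
      exact (DirectedOn.disjoint_sSup_left hchain.directedOn).mpr hc,
      fun z hz => le_sSup hz⟩) ⊥ disjoint_bot_left
  let π := N.mkQ
  have hess : IsEssentialInj (π ∘ₗ E.subtype) := by
    refine ⟨(injective_iff_map_eq_zero _).mpr fun e he => Subtype.ext ?_, fun Q hQ hbot => hQ ?_⟩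
    · exact Submodule.disjoint_def.mp hN.prop e ((Submodule.Quotient.mk_eq_zero N).mp he) e.2
    · rw [eq_bot_iff]
      intro q hq
      obtain ⟨y, rfl⟩ := N.mkQ_surjective q
      have hle : N ≤ Q.comap π := fun n hn => by
        simp [π, (Submodule.Quotient.mk_eq_zero N).mpr hn]
      have hdis : Disjoint (Q.comap π) E := Submodule.disjoint_def.mpr fun z hz hzE => by
        have h0 : π z ∈ Q ⊓ LinearMap.range (π ∘ₗ E.subtype) := ⟨hz, ⟨z, hzE⟩, rfl⟩
        rw [hbot, Submodule.mem_bot] at h0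
        exact Submodule.disjoint_def.mp hN.prop z ((Submodule.Quotient.mk_eq_zero N).mp h0) hzE
      exact (Submodule.Quotient.mk_eq_zero N).mpr (hN.le_of_ge hdis hle hq)
  obtain ⟨φ, hφ⟩ := Module.Injective.extension_property R I E _ _ hess.injective E.subtype
  have hφ' : ∀ e : E, φ (π e) = e := LinearMap.congr_fun hφ
  have hinj : Function.Injective φ := injective_of_comp hess φ (by
    rw [hφ]; exact E.subtype_injective)
  have heq : LinearMap.range φ = E := by
    refine h _ (fun e he => ⟨π e, hφ' ⟨e, he⟩⟩) fun Q hQ hQ0 hbot => ?_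
    obtain ⟨z, hz, hz0⟩ := Submodule.exists_mem_ne_zero_of_ne_bot hQ0
    obtain ⟨q, rfl⟩ := hQ hz
    obtain ⟨r, e, he, hr⟩ := exists_smul_mem_range hess (y := q) (fun h => hz0 (by simp [h]))
    have h1 : r • φ q ∈ Q ⊓ E := by
      refine ⟨Q.smul_mem r hz, ?_⟩
      rw [← map_smul, ← he]
      exact (hφ' e).symm ▸ e.2
    rw [hbot, Submodule.mem_bot, ← map_smul] at h1
    exact hr ((map_eq_zero_iff φ hinj).mp h1)
  exact injective_of_retract E.subtype ((φ ∘ₗ π).codRestrict E fun y => heq ▸ ⟨_, rfl⟩)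
    fun e => Subtype.ext (hφ' e)

/-- Every submodule of an injective module has a hull inside it. -/
theorem exists_hull_le [Module.Injective R I] (N : Submodule R I) :
    ∃ (E : Submodule R I) (h : N ≤ E), IsInjectiveHull (Submodule.inclusion h) := by
  let S : Set (Submodule R I) :=
    {E | N ≤ E ∧ ∀ Q : Submodule R I, Q ≤ E → Q ≠ ⊥ → Q ⊓ N ≠ ⊥}
  obtain ⟨E, -, hE⟩ := zorn_le_nonempty₀ S
    (fun c hc hchain y hy => ⟨sSup c, ⟨(hc hy).1.trans (le_sSup hy), fun Q hQ hQ0 hbot => by
      obtain ⟨z, hz, hz0⟩ := Submodule.exists_mem_ne_zero_of_ne_bot hQ0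
      obtain ⟨E, hEc, hzE⟩ := (Submodule.mem_sSup_of_directed ⟨y, hy⟩ hchain.directedOn).mp (hQ hz)
      refine (hc hEc).2 (R ∙ z) ((Submodule.span_singleton_le_iff_mem _ _).mpr hzE)
        (by simpa using hz0) (eq_bot_iff.mpr ?_)
      rw [← hbot]
      exact inf_le_inf_right _ ((Submodule.span_singleton_le_iff_mem _ _).mpr hz)⟩,
      fun z hz => le_sSup hz⟩) N ⟨le_rfl, fun Q hQ hQ0 => by rwa [inf_of_le_left hQ]⟩
  refine ⟨E, hE.prop.1, ⟨isEssentialInj_of_exists_smul (Submodule.inclusion_injective _)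
    fun y hy => ?_, injective_of_maximal E fun E' hle hess => le_antisymm ?_ hle⟩⟩
  · obtain ⟨z, ⟨hzy, hzN⟩, hz0⟩ := Submodule.exists_mem_ne_zero_of_ne_bot
      (hE.prop.2 (R ∙ (y : I)) ((Submodule.span_singleton_le_iff_mem _ _).mpr y.2)
        (by simpa using hy))
    obtain ⟨r, hr⟩ := Submodule.mem_span_singleton.mp hzy
    exact ⟨r, ⟨z, hzN⟩, Subtype.ext hr.symm, fun h => hz0 (by
      rw [← hr]; simpa using congrArg Subtype.val h)⟩
  · exact hE.le_of_ge ⟨hE.prop.1.trans hle, fun Q hQ hQ0 hbot => hE.prop.2 (Q ⊓ E) inf_le_right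
      (hess Q hQ hQ0) (eq_bot_iff.mpr ((inf_le_inf_right _ inf_le_left).trans hbot.le))⟩ hle

theorem exists_isInjectiveHull (R : Type u) [CommRing R] (M : Type u) [AddCommGroup M]
    [Module R M] : ∃ (E : Type u) (_ : AddCommGroup E) (_ : Module R E) (f : M →ₗ[R] E),
      IsInjectiveHull f := by
  obtain ⟨I, _, _, i, hI, hi⟩ := exists_injective_embedding R M
  obtain ⟨E, h, hE⟩ := exists_hull_le (LinearMap.range i)
  exact ⟨E, inferInstance, inferInstance,
    Submodule.inclusion h ∘ₗ (LinearEquiv.ofInjective i hi).toLinearMap,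
    isEssentialInj_comp (isEssentialInj_linearEquiv _) hE.toIsEssentialInj, hE.isInjective⟩

/-- Maps into injective modules extend to injective maps of the hull. -/
theorem exists_extend {f : M →ₗ[R] E} (hf : IsEssentialInj f) [Module.Injective R I]
    (i : M →ₗ[R] I) (hi : Function.Injective i) :
    ∃ α : E →ₗ[R] I, Function.Injective α ∧ α ∘ₗ f = i := by
  obtain ⟨α, hα⟩ := Module.Injective.extension_property R I M E f hf.injective i
  exact ⟨α, injective_of_comp hf α (by rw [hα]; exact hi), hα⟩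

/-- An injective module with an essential extension is equal to it. -/
theorem surjective_of_injective [Module.Injective R E] {g : E →ₗ[R] P} (hg : IsEssentialInj g) :
    Function.Surjective g := by
  obtain ⟨s, hs, hc⟩ := exists_retraction g hg.injective
  rw [← LinearMap.range_eq_top]
  have hker : LinearMap.ker s = ⊥ := by
    by_contra h
    exact hg.essential _ h (by rw [inf_comm]; exact hc.inf_eq_bot)
  simpa [hker] using hc.sup_eq_top

/-- Injective hulls are unique. -/
theorem exists_equiv {f : M →ₗ[R] E} (hf : IsInjectiveHull f) {g : M →ₗ[R] P}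
    (hg : IsInjectiveHull g) : ∃ e : E ≃ₗ[R] P, e.toLinearMap ∘ₗ f = g := by
  have := hf.isInjective
  have := hg.isInjective
  obtain ⟨α, hα, hαf⟩ := exists_extend hf.toIsEssentialInj g hg.injective
  exact ⟨LinearEquiv.ofBijective α ⟨hα, surjective_of_injective
    (isEssentialInj_of_comp hα (by rw [hαf]; exact hg.toIsEssentialInj))⟩, hαf⟩

/-- In an indecomposable injective module every nonzero submodule is essential. -/
theorem inf_ne_bot_of_indecomposable [Module.Injective R E] (hE : IsIndecomposable R E)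
    {N N' : Submodule R E} (hN : N ≠ ⊥) (hN' : N' ≠ ⊥) : N ⊓ N' ≠ ⊥ := by
  obtain ⟨H, h, hH⟩ := exists_hull_le N
  have := hH.isInjective
  obtain ⟨s, hs, hc⟩ := exists_retraction H.subtype H.subtype_injective
  rw [Submodule.range_subtype] at hc
  have htop : H = ⊤ := by
    rcases hE.2 _ _ hc with h0 | h0
    · exact absurd (le_bot_iff.mp (h0 ▸ h)) hN
    · simpa [h0] using hc.sup_eq_top
  obtain ⟨y, hy, hy0⟩ := Submodule.exists_mem_ne_zero_of_ne_bot hN'
  obtain ⟨r, x, hx, hr⟩ := exists_smul_mem_range hH.toIsEssentialInj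
    (y := ⟨y, htop ▸ Submodule.mem_top⟩) (fun h => hy0 (congrArg Subtype.val h))
  intro hbot
  have h1 : r • y ∈ N ⊓ N' := ⟨by
    have := congrArg Subtype.val hx
    simp only [Submodule.coe_inclusion, SetLike.val_smul] at this
    exact this ▸ x.2, N'.smul_mem r hy⟩
  rw [hbot, Submodule.mem_bot] at h1
  exact hr (Subtype.ext h1)

/-- The zero divisors of an indecomposable injective module form a prime ideal. -/
theorem exists_prime_zeroDivisors [Module.Injective R E] (hE : IsIndecomposable R E) :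
    ∃ p : Ideal R, p.IsPrime ∧ (p : Set R) = {r : R | ∃ x : E, x ≠ 0 ∧ r • x = 0} := by
  have := hE.1
  obtain ⟨x0, hx0⟩ := exists_ne (0 : E)
  let p : Ideal R :=
    { carrier := {r : R | ∃ x : E, x ≠ 0 ∧ r • x = 0}
      zero_mem' := ⟨x0, hx0, zero_smul R x0⟩
      add_mem' := by
        rintro r s ⟨x, hx, hrx⟩ ⟨y, hy, hsy⟩
        obtain ⟨z, ⟨hzx, hzy⟩, hz0⟩ := Submodule.exists_mem_ne_zero_of_ne_bot
          (inf_ne_bot_of_indecomposable hE (N := R ∙ x) (N' := R ∙ y) (by simpa using hx)
            (by simpa using hy))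
        obtain ⟨a, rfl⟩ := Submodule.mem_span_singleton.mp hzx
        obtain ⟨b, hb⟩ := Submodule.mem_span_singleton.mp hzy
        refine ⟨a • x, hz0, ?_⟩
        rw [add_smul, smul_comm r, hrx, smul_zero, zero_add, ← hb, smul_comm s, hsy, smul_zero]
      smul_mem' := by
        rintro c r ⟨x, hx, hrx⟩
        exact ⟨x, hx, by rw [smul_eq_mul, mul_smul, hrx, smul_zero]⟩ }
  refine ⟨p, ⟨fun h => ?_, fun {a b} hab => ?_⟩, rfl⟩
  · obtain ⟨x, hx, h1⟩ := ((Ideal.eq_top_iff_one p).mp h : (1 : R) ∈ p)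
    exact hx (by simpa using h1)
  · obtain ⟨x, hx, hab⟩ := hab
    by_cases hb : b • x = 0
    · exact Or.inr ⟨x, hx, hb⟩
    · exact Or.inl ⟨b • x, hb, by rw [← mul_smul, hab]⟩

/-- An essential extension of a prime quotient is indecomposable. -/
theorem isIndecomposable_of_prime {p : Ideal R} [p.IsPrime] {f : (R ⧸ p) →ₗ[R] E}
    (hf : IsEssentialInj f) : IsIndecomposable R E := by
  refine ⟨⟨⟨f 1, 0, fun h => one_ne_zero ((map_eq_zero_iff f hf.injective).mp h)⟩⟩,
    fun N N' hc => ?_⟩
  by_contra! h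
  obtain ⟨hN, hN'⟩ := h
  obtain ⟨_, ⟨h1, a, rfl⟩, ha⟩ := Submodule.exists_mem_ne_zero_of_ne_bot (hf.essential N hN)
  obtain ⟨_, ⟨h2, b, rfl⟩, hb⟩ := Submodule.exists_mem_ne_zero_of_ne_bot (hf.essential N' hN')
  obtain ⟨r, rfl⟩ := Ideal.Quotient.mk_surjective a
  obtain ⟨s, rfl⟩ := Ideal.Quotient.mk_surjective b
  have h3 : f (Ideal.Quotient.mk p (r * s)) ∈ N ⊓ N' := by
    refine ⟨?_, ?_⟩
    · have := N.smul_mem s h1
      rwa [← map_smul, Algebra.smul_def, Ideal.Quotient.algebraMap_eq, ← map_mul, mul_comm] at this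
    · have := N'.smul_mem r h2
      rwa [← map_smul, Algebra.smul_def, Ideal.Quotient.algebraMap_eq, ← map_mul] at this
  rw [hc.inf_eq_bot, Submodule.mem_bot, map_eq_zero_iff f hf.injective,
    map_mul, mul_eq_zero] at h3
  rcases h3 with h3 | h3
  · exact ha (by rw [h3, map_zero])
  · exact hb (by rw [h3, map_zero])

end Groth.Agent.InjHullBasic
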