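import Groth.Agent.InjHullBasic.Basic
import Mathlib.RingTheory.Filtration
import Mathlib.RingTheory.LocalProperties.Injective
import Mathlib.RingTheory.LocalRing.ResidueField.Ideal
import Mathlib.Algebra.DirectSum.Module

/-!
# Injective modules over Noetherian rings
-/

universe u

open CategoryTheory InjHull LocCoh

namespace Groth.Agent.InjHullBasic

variable {R : Type u} [CommRing R]

lemma exists_range_lift {A B C : Type u} [AddCommGroup A] [Module R A] [AddCommGroup B]
    [Module R B] [AddCommGroup C] [Module R C] (q : A →ₗ[R] B) (g : A →ₗ[R] C)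
    (h : LinearMap.ker q ≤ LinearMap.ker g) :
    ∃ φ : LinearMap.range q →ₗ[R] C, ∀ x, φ ⟨q x, LinearMap.mem_range_self q x⟩ = g x := by
  refine ⟨Submodule.liftQ _ g h ∘ₗ q.quotKerEquivRange.symm.toLinearMap, fun x => ?_⟩
  rw [LinearMap.comp_apply, LinearEquiv.coe_coe,
    show q.quotKerEquivRange.symm ⟨q x, LinearMap.mem_range_self q x⟩ = Submodule.Quotient.mk x
      from (LinearEquiv.symm_apply_eq _).mpr rfl]
  exact Submodule.liftQ_apply _ _ _

/-- A direct sum of injective modules over a Noetherian ring is injective. -/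
theorem injective_directSum [IsNoetherianRing R] {ι : Type u} (E : ι → Type u)
    [∀ i, AddCommGroup (E i)] [∀ i, Module R (E i)] (hE : ∀ i, Module.Injective R (E i)) :
    Module.Injective R (DirectSum ι E) := by
  classical
  refine Module.Baer.injective fun a g => ?_
  obtain ⟨t, ht⟩ := (Submodule.fg_top a).mpr (IsNoetherian.noetherian a)
  let s : Finset ι := t.biUnion fun x => DFinsupp.support (g x)
  have hs : ∀ x : a, ∀ i ∉ s, g x i = 0 := fun x i hi => by
    have hx : x ∈ Submodule.span R (t : Set a) := ht ▸ Submodule.mem_top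
    induction hx using Submodule.span_induction with
    | mem y hy =>
      by_contra hne
      exact hi (Finset.mem_biUnion.mpr ⟨y, hy, DFinsupp.mem_support_iff.mpr hne⟩)
    | zero => simp
    | add y z _ _ hy hz => simp [hy, hz]
    | smul c y _ hy => simp [hy, DirectSum.smul_apply]
  have hext : ∀ i, ∃ φ : R →ₗ[R] E i, ∀ (x : R) (hx : x ∈ a), φ x = g ⟨x, hx⟩ i := fun i =>
    have := hE i
    Module.Baer.of_injective (hE i) a (DirectSum.component R ι E i ∘ₗ g)
  choose φ hφ using hext
  refine ⟨∑ i ∈ s, DirectSum.lof R ι E i ∘ₗ φ i, fun x hx => ?_⟩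
  refine DFinsupp.ext fun j => ?_
  rw [LinearMap.sum_apply, DFinsupp.finsetSum_apply]
  by_cases hj : j ∈ s
  · rw [Finset.sum_eq_single j]
    · change DirectSum.lof R ι E j (φ j x) j = _
      rw [DirectSum.lof_eq_of, DirectSum.of_eq_same, hφ j x hx]
    · intro i _ hij
      change DirectSum.lof R ι E i (φ i x) j = 0
      rw [DirectSum.lof_eq_of, DirectSum.of_eq_of_ne _ _ _ (Ne.symm hij)]
    · exact fun h => absurd hj h
  · rw [hs ⟨x, hx⟩ j hj, Finset.sum_eq_zero]
    intro i hi
    change DirectSum.lof R ι E i (φ i x) j = 0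
    rw [DirectSum.lof_eq_of, DirectSum.of_eq_of_ne _ _ _ fun h => hj (by rw [h]; exact hi)]

lemma isPowerTorsion_iSup {M : Type u} [AddCommGroup M] [Module R M] (J : Ideal R) {x : M} :
    x ∈ (⨆ n : ℕ, Submodule.torsionBySet R M ((J ^ n : Ideal R) : Set R)) ↔
      ∃ n : ℕ, ∀ a ∈ J ^ n, a • x = 0 := by
  have hmono : Monotone fun n : ℕ => Submodule.torsionBySet R M ((J ^ n : Ideal R) : Set R) :=
    fun m n hmn => Submodule.torsionBySet_le_torsionBySet_of_subset (Ideal.pow_le_pow_right hmn)
  rw [Submodule.mem_iSup_of_directed _ hmono.directed_le]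
  exact exists_congr fun n => by simp [Submodule.mem_torsionBySet_iff]

/-- A map from an ideal to a torsion module kills its intersection with a power. -/
lemma exists_pow_inf_le_ker [IsNoetherianRing R] {J : Ideal R} {H : Type u} [AddCommGroup H]
    [Module R H] (hH : IsPowerTorsion J H) (a : Ideal R) (g : a →ₗ[R] H) :
    ∃ k, ∀ x : a, (x : R) ∈ J ^ k → g x = 0 := by
  obtain ⟨t, ht⟩ := (Submodule.fg_top a).mpr (IsNoetherian.noetherian a)
  choose n hn using fun x : a => hH (g x)
  let N := t.sup n
  have hN : ∀ (x : a) (r : R), r ∈ J ^ N → r • g x = 0 := fun x r hr => by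
    have hx : x ∈ Submodule.span R (t : Set a) := ht ▸ Submodule.mem_top
    induction hx using Submodule.span_induction with
    | mem y hy => exact hn y r (Ideal.pow_le_pow_right (Finset.le_sup hy) hr)
    | zero => simp
    | add y z _ _ hy hz => simp [hy, hz]
    | smul c y _ hy => rw [map_smul, smul_comm, hy, smul_zero]
  obtain ⟨k, hk⟩ := J.exists_pow_inf_eq_pow_smul (M := R) a
  refine ⟨N + k, fun x hx => ?_⟩
  have hmem : (x : R) ∈ J ^ N • (J ^ k • ⊤ ⊓ a : Submodule R R) := by
    have := hk (N + k) le_add_self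
    rw [Nat.add_sub_cancel] at this
    rw [← this]
    exact ⟨by simpa using hx, x.2⟩
  have key : ∀ y ∈ J ^ N • (J ^ k • ⊤ ⊓ a : Submodule R R), ∀ hy : y ∈ a, g ⟨y, hy⟩ = 0 := by
    intro y hy
    induction hy using Submodule.smul_induction_on' with
    | smul r hr z hz =>
      intro hy
      rw [show (⟨r • z, hy⟩ : a) = r • ⟨z, hz.2⟩ from rfl, map_smul, hN _ r hr]
    | add y hy' z hz' ihy ihz =>
      intro hyz
      have hya : y ∈ a := (Submodule.smul_le_right.trans inf_le_right) hy'
      have hza : z ∈ a := (Submodule.smul_le_right.trans inf_le_right) hz'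
      rw [show (⟨y + z, hyz⟩ : a) = ⟨y, hya⟩ + ⟨z, hza⟩ from rfl, map_add, ihy hya, ihz hza,
        add_zero]
  exact key x hmem x.2

/-- A torsion module with extensions from submodules of modules killed by powers is injective. -/
theorem injective_of_torsion_extends [IsNoetherianRing R] {J : Ideal R} {H : Type u}
    [AddCommGroup H] [Module R H] (hH : IsPowerTorsion J H)
    (h : ∀ (k : ℕ) (N : Submodule R (R ⧸ J ^ k)) (g : N →ₗ[R] H),
      ∃ g' : (R ⧸ J ^ k) →ₗ[R] H, g'.comp N.subtype = g) :
    Module.Injective R H := by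
  refine Module.Baer.injective fun a g => ?_
  obtain ⟨k, hk⟩ := exists_pow_inf_le_ker hH a g
  let q : a →ₗ[R] (R ⧸ J ^ k) := (Submodule.mkQ (J ^ k)) ∘ₗ a.subtype
  have hker : LinearMap.ker q ≤ LinearMap.ker g := fun x hx =>
    hk x ((Submodule.Quotient.mk_eq_zero (J ^ k)).mp hx)
  obtain ⟨φ, hφ⟩ := exists_range_lift q g hker
  obtain ⟨g', hg'⟩ := h k (LinearMap.range q) φ
  refine ⟨g' ∘ₗ Submodule.mkQ (J ^ k), fun x hx => ?_⟩
  have := LinearMap.congr_fun hg' ⟨q ⟨x, hx⟩, LinearMap.mem_range_self _ _⟩
  exact this.trans (hφ _)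

/-- Torsion submodules of injective modules are injective. -/
theorem injective_powerTorsion [IsNoetherianRing R] (I : Type u) [AddCommGroup I] [Module R I]
    [Module.Injective R I] (J : Ideal R) :
    Module.Injective R ↥(⨆ n : ℕ, Submodule.torsionBySet R I ((J ^ n : Ideal R) : Set R)) := by
  set T : Submodule R I := ⨆ n : ℕ, Submodule.torsionBySet R I ((J ^ n : Ideal R) : Set R) with hT
  refine injective_of_torsion_extends (J := J) (fun x => ?_) fun k N g => ?_
  · obtain ⟨n, hn⟩ := (isPowerTorsion_iSup J).mp (show (x : I) ∈ _ from x.2)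
    exact ⟨n, fun a ha => Subtype.ext (hn a ha)⟩
  · obtain ⟨φ, hφ⟩ := Module.Injective.extension_property R I N (R ⧸ J ^ k) N.subtype
      N.subtype_injective (T.subtype ∘ₗ g)
    have hmem : ∀ x, φ x ∈ T := fun x => by
      rw [hT, isPowerTorsion_iSup]
      obtain ⟨y, rfl⟩ := Submodule.mkQ_surjective (J ^ k) x
      refine ⟨k, fun a ha => ?_⟩
      rw [← map_smul, ← map_smul, show Submodule.mkQ (J ^ k) (a • y) = 0 from
        (Submodule.Quotient.mk_eq_zero (J ^ k)).mpr (Ideal.mul_mem_right y _ ha), map_zero]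
    exact ⟨φ.codRestrict T hmem,
      LinearMap.ext fun x => Subtype.ext (LinearMap.congr_fun hφ x)⟩

/-- An injective module surjects to each localisation. -/
theorem mkLinearMap_surjective [IsNoetherianRing R] (S : Submonoid R) (I : Type u)
    [AddCommGroup I] [Module R I] [Module.Injective R I] :
    Function.Surjective (LocalizedModule.mkLinearMap S I) := by
  intro y
  induction y using LocalizedModule.induction_on with
  | _ m s =>
    let c : ℕ →o Ideal R := ⟨fun n => (R ∙ ((s : R) ^ n)).annihilator, monotone_nat_of_le_succ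
      fun n r hr => by
        rw [Submodule.mem_annihilator_span_singleton, smul_eq_mul] at hr ⊢
        rw [pow_succ, ← mul_assoc, hr, zero_mul]⟩
    obtain ⟨n, hn⟩ := monotone_stabilizes_iff_noetherian.mpr ‹_› c
    let t : R := (s : R) ^ (n + 1)
    let q : R →ₗ[R] R := LinearMap.toSpanSingleton R R t
    let g : R →ₗ[R] I := LinearMap.toSpanSingleton R I ((s : R) ^ n • m)
    have hker : LinearMap.ker q ≤ LinearMap.ker g := fun r hr => by
      have h1 : r ∈ c (n + 1) := Submodule.mem_annihilator_span_singleton _ _ |>.mpr hr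
      rw [← hn (n + 1) (Nat.le_succ n)] at h1
      have h2 := (Submodule.mem_annihilator_span_singleton _ _).mp h1
      change r • (s : R) ^ n • m = 0
      rw [smul_smul, ← smul_eq_mul, h2, zero_smul]
    obtain ⟨φ, hφ⟩ := exists_range_lift q g hker
    obtain ⟨g', hg'⟩ := Module.Injective.extension_property R I _ R (LinearMap.range q).subtype
      (Submodule.subtype_injective _) φ
    have h1 : g' t = (s : R) ^ n • m := by
      have := (LinearMap.congr_fun hg' ⟨q 1, LinearMap.mem_range_self _ _⟩).trans (hφ 1)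
      simpa [q, g, t] using this
    refine ⟨g' 1, ?_⟩
    rw [LocalizedModule.mkLinearMap_apply, LocalizedModule.mk_eq]
    refine ⟨s ^ n, ?_⟩
    simp only [one_smul, Submonoid.smul_def, SubmonoidClass.coe_pow, smul_smul]
    rw [← h1, ← map_smul]
    simp [t, pow_succ]

/-- Localisation preserves essential submodules. -/
theorem localized_essential [IsNoetherianRing R] (S : Submonoid R) {M : Type u} [AddCommGroup M]
    [Module R M] (N : Submodule R M) (hN : ∀ N' : Submodule R M, N' ≠ ⊥ → N' ⊓ N ≠ ⊥)
    (L : Submodule (Localization S) (LocalizedModule S M)) (hL : L ≠ ⊥) :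
    L ⊓ Submodule.localized S N ≠ ⊥ := by
  obtain ⟨x, hx, hx0⟩ := Submodule.exists_mem_ne_zero_of_ne_bot hL
  induction x using LocalizedModule.induction_on with
  | _ m s =>
    intro hbot
    obtain ⟨_, ⟨t, rfl⟩, hmax⟩ := set_has_maximal_iff_noetherian.mpr ‹_›
      (Set.range fun t : S => (R ∙ ((t : R) • m)).annihilator) (Set.range_nonempty _)
    have hm : ∀ t : S, (t : R) • m ≠ 0 := fun t ht => hx0 (by
      rw [← LocalizedModule.zero_mk s, LocalizedModule.mk_eq]
      exact ⟨t, by simp [Submonoid.smul_def, smul_comm (t : R), ht]⟩)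
    obtain ⟨_, ⟨h1, h2⟩, h0⟩ := Submodule.exists_mem_ne_zero_of_ne_bot
      (hN (R ∙ ((t : R) • m)) (by simpa using hm t))
    obtain ⟨r, rfl⟩ := Submodule.mem_span_singleton.mp h1
    have h3 : LocalizedModule.mk (r • (t : R) • m) (1 : S) ∈ L ⊓ Submodule.localized S N := by
      refine ⟨?_, ⟨_, h2, 1, IsLocalizedModule.mk'_one _ _ _⟩⟩
      have := L.smul_mem (algebraMap R (Localization S) (r * t * s)) hx
      rw [algebraMap_smul, LocalizedModule.smul'_mk] at this
      rw [show LocalizedModule.mk (r • (t : R) • m) (1 : S) =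
        LocalizedModule.mk ((r * t * s) • m) s from
        LocalizedModule.mk_eq.mpr ⟨1, by simp [Submonoid.smul_def, smul_smul, mul_comm]⟩]
      exact this
    rw [hbot, Submodule.mem_bot, ← LocalizedModule.zero_mk (1 : S), LocalizedModule.mk_eq] at h3
    obtain ⟨u, hu⟩ := h3
    simp only [one_smul, smul_zero, Submonoid.smul_def] at hu
    have hle : (R ∙ ((t : R) • m)).annihilator ≤ (R ∙ (((u * t : S) : R) • m)).annihilator := by
      intro c hc
      rw [Submodule.mem_annihilator_span_singleton] at hc ⊢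
      rw [Submonoid.coe_mul, mul_smul, smul_comm, hc, smul_zero]
    have heq := eq_of_le_of_not_lt hle (hmax _ ⟨u * t, rfl⟩)
    apply h0
    rw [← Submodule.mem_annihilator_span_singleton, heq, Submodule.mem_annihilator_span_singleton,
      Submonoid.coe_mul, mul_smul, smul_comm]
    exact hu

/-- Localisation preserves injective hulls. -/
theorem isInjectiveHull_localized [IsNoetherianRing R] (S : Submonoid R) {M E : Type u}
    [AddCommGroup M] [Module R M] [AddCommGroup E] [Module R E] {f : M →ₗ[R] E}
    (hf : IsInjectiveHull f) : IsInjectiveHull (LocalizedModule.map S f) := by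
  have := hf.isInjective
  refine ⟨⟨LocalizedModule.map_injective S f hf.injective, fun L hL hbot => ?_⟩,
    Module.injective_of_isLocalizedModule S (LocalizedModule.mkLinearMap S E)⟩
  refine localized_essential S _ (fun N hN => hf.essential N hN) L hL (eq_bot_iff.mpr ?_)
  rw [← hbot]
  refine inf_le_inf_left _ ?_
  rintro _ ⟨_, ⟨x, rfl⟩, s, rfl⟩
  refine ⟨LocalizedModule.mk x s, ?_⟩
  rw [IsLocalizedModule.mk_eq_mk']
  exact IsLocalizedModule.map_mk' S (LocalizedModule.mkLinearMap S M)
    (LocalizedModule.mkLinearMap S E) f x s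

variable {p : Ideal R} [p.IsPrime] {E : Type u} [AddCommGroup E] [Module R E]
  {f : (R ⧸ p) →ₗ[R] E}

omit [p.IsPrime] in
/-- Elements of the hull of `R/p` are killed by powers of `p`. -/
theorem isPowerTorsion_of_prime [IsNoetherianRing R] (hf : IsInjectiveHull f) :
    IsPowerTorsion p E := by
  have := hf.isInjective
  set T : Submodule R E := ⨆ n : ℕ, Submodule.torsionBySet R E ((p ^ n : Ideal R) : Set R) with hT
  have hmem : ∀ x, f x ∈ T := fun x => by
    rw [hT, isPowerTorsion_iSup]
    refine ⟨1, fun a ha => ?_⟩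
    rw [pow_one] at ha
    rw [← map_smul, Algebra.smul_def, Ideal.Quotient.algebraMap_eq,
      Ideal.Quotient.eq_zero_iff_mem.mpr ha, zero_mul, map_zero]
  have : Module.Injective R T := injective_powerTorsion E p
  have hsurj := surjective_of_injective (g := T.subtype)
    (isEssentialInj_of_comp (f := f.codRestrict T hmem) T.subtype_injective
      (by rw [LinearMap.subtype_comp_codRestrict]; exact hf.toIsEssentialInj))
  intro x
  obtain ⟨y, rfl⟩ := hsurj x
  exact (isPowerTorsion_iSup p).mp y.2

/-- Elements outside `p` act bijectively on the hull of `R/p`. -/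
theorem smul_bijective_of_prime (hf : IsInjectiveHull f) {s : R} (hs : s ∉ p) :
    Function.Bijective (fun x : E => s • x) := by
  have := hf.isInjective
  have hinj : Function.Injective (LinearMap.lsmul R E s) :=
    injective_of_comp hf.toIsEssentialInj _ ((injective_iff_map_eq_zero _).mpr fun x hx => by
      obtain ⟨a, rfl⟩ := Ideal.Quotient.mk_surjective x
      simp only [LinearMap.comp_apply, LinearMap.lsmul_apply, ← map_smul,
        map_eq_zero_iff f hf.injective] at hx
      rw [Algebra.smul_def, Ideal.Quotient.algebraMap_eq, mul_eq_zero] at hx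
      exact hx.resolve_left fun h => hs (Ideal.Quotient.eq_zero_iff_mem.mp h))
  refine ⟨hinj, surjective_of_injective (g := LinearMap.lsmul R E s)
    (isEssentialInj_of_exists_smul hinj fun y hy => ?_)⟩
  obtain ⟨r, x, hx, hr⟩ := exists_smul_mem_range hf.toIsEssentialInj hy
  refine ⟨s * r, r • y, by simp [mul_smul, smul_comm r s], fun h => hr (hinj ?_)⟩
  simpa [mul_smul, smul_comm r s] using h

/-- The hull of `R/p` is the hull of the residue field. -/
theorem exists_hull_residueField (hf : IsInjectiveHull f) :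
    ∃ g : p.ResidueField →ₗ[R] E, IsInjectiveHull g := by
  have := hf.isInjective
  let ι : (R ⧸ p) →ₗ[R] p.ResidueField :=
    (IsScalarTower.toAlgHom R (R ⧸ p) p.ResidueField).toLinearMap
  have hι : Function.Injective ι := p.injective_algebraMap_quotient_residueField
  have hess : IsEssentialInj ι := isEssentialInj_of_exists_smul hι fun y hy => by
    obtain ⟨a, b, hb, rfl⟩ := IsFractionRing.div_surjective (A := R ⧸ p) y
    obtain ⟨b, rfl⟩ := Ideal.Quotient.mk_surjective b
    have hb0 : algebraMap (R ⧸ p) p.ResidueField (Ideal.Quotient.mk p b) ≠ 0 :=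
      (map_ne_zero_iff _ hι).mpr (nonZeroDivisors.ne_zero hb)
    have hb' : b • (algebraMap (R ⧸ p) p.ResidueField a /
        algebraMap (R ⧸ p) p.ResidueField (Ideal.Quotient.mk p b)) =
        algebraMap (R ⧸ p) p.ResidueField a := by
      rw [Algebra.smul_def, IsScalarTower.algebraMap_apply R (R ⧸ p) p.ResidueField,
        Ideal.Quotient.algebraMap_eq, mul_div_cancel₀ _ hb0]
    refine ⟨b, a, hb'.symm, ?_⟩
    rw [hb']
    intro h
    exact hy (by rw [h, zero_div])
  obtain ⟨g, hg, hgf⟩ := exists_extend hess f hf.injective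
  exact ⟨g, isEssentialInj_of_comp hg (by rw [hgf]; exact hf.toIsEssentialInj), hf.isInjective⟩

/-- Indecomposable injective modules over a Noetherian ring are hulls of prime quotients. -/
theorem exists_prime_hull [IsNoetherianRing R] {E : Type u} [AddCommGroup E] [Module R E]
    [Module.Injective R E] (hE : IsIndecomposable R E) :
    ∃ (p : Ideal R) (_ : p.IsPrime) (g : (R ⧸ p) →ₗ[R] E), IsInjectiveHull g := by
  have := hE.1
  obtain ⟨p, hp⟩ := associatedPrimes.nonempty R E
  obtain ⟨hp', g, hg⟩ := (isAssociatedPrime_iff_exists_injective_linearMap _ _).mp hp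
  refine ⟨p, hp', g, ⟨hg, fun N hN => inf_ne_bot_of_indecomposable hE hN fun h => ?_⟩, ‹_›⟩
  rw [LinearMap.range_eq_bot] at h
  exact one_ne_zero (hg (show g 1 = g 0 by simp [h]))

/-- Injective modules over a Noetherian ring are sums of indecomposable ones. -/
theorem exists_isInternal_indecomposable [IsNoetherianRing R] (I : Type u) [AddCommGroup I]
    [Module R I] [Module.Injective R I] :
    ∃ s : Set (Submodule R I), sSupIndep s ∧ sSup s = ⊤ ∧
      ∀ E ∈ s, IsIndecomposable R ↥E ∧ Module.Injective R ↥E := by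
  classical
  let S : Set (Set (Submodule R I)) :=
    {s | sSupIndep s ∧ ∀ E ∈ s, IsIndecomposable R ↥E ∧ Module.Injective R ↥E}
  obtain ⟨s, hs⟩ := zorn_subset S fun c hc hchain => ⟨⋃₀ c,
    ⟨iSupIndep_sUnion_of_directed hchain.directedOn fun a ha => (hc ha).1,
      fun E ⟨a, ha, hE⟩ => (hc ha).2 E hE⟩, fun a ha => Set.subset_sUnion_of_mem ha⟩
  refine ⟨s, hs.prop.1, ?_, hs.prop.2⟩
  by_contra htop
  have hinj : Module.Injective R (sSup s : Submodule R I) := by
    have hind := ((sSupIndep_iff s).mp hs.prop.1).dfinsupp_lsum_injective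
    have : Module.Injective R (Π₀ E : s, ↥(E : Submodule R I)) :=
      injective_directSum (fun E : s => ↥(E : Submodule R I)) fun E => (hs.prop.2 _ E.2).2
    refine injective_of_linearEquiv ((LinearEquiv.ofInjective _ hind).trans
      (LinearEquiv.ofEq _ _ ?_))
    rw [← Submodule.iSup_eq_range_dfinsupp_lsum, sSup_eq_iSup']
  obtain ⟨σ, hσ, hc⟩ := exists_retraction (sSup s).subtype (Submodule.subtype_injective _)
  rw [Submodule.range_subtype] at hc
  have hne : Nontrivial (LinearMap.ker σ) := Submodule.nontrivial_iff_ne_bot.mpr fun h =>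
    htop (by simpa [h] using hc.sup_eq_top)
  obtain ⟨p, hp⟩ := associatedPrimes.nonempty R (LinearMap.ker σ)
  obtain ⟨hp', g, hg⟩ := (isAssociatedPrime_iff_exists_injective_linearMap _ _).mp hp
  let i : (R ⧸ p) →ₗ[R] I := (LinearMap.ker σ).subtype ∘ₗ g
  have hi : Function.Injective i := (Submodule.subtype_injective _).comp hg
  obtain ⟨H, hle, hH⟩ := exists_hull_le (LinearMap.range i)
  have hind : IsIndecomposable R H := isIndecomposable_of_prime
    (f := Submodule.inclusion hle ∘ₗ (LinearEquiv.ofInjective i hi).toLinearMap)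
    (isEssentialInj_comp (isEssentialInj_linearEquiv _) hH.toIsEssentialInj)
  have hdisj : Disjoint H (sSup s) := by
    rw [Submodule.disjoint_def]
    intro y hy hys
    by_contra hy0
    obtain ⟨r, x, hx, hr⟩ := exists_smul_mem_range hH.toIsEssentialInj (y := ⟨y, hy⟩)
      fun h => hy0 (congrArg Subtype.val h)
    refine hr (Subtype.ext ?_)
    have hx' : (x : I) = r • y := congrArg Subtype.val hx
    obtain ⟨z, hz⟩ := x.2
    have : (x : I) ∈ LinearMap.ker σ := hz ▸ (g z).2
    exact Submodule.disjoint_def.mp hc.disjoint _ ((sSup s).smul_mem r hys) (by rw [SetLike.val_smul, ← hx']; exact this)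
  have hHs : H ∉ s := fun h => by
    have h0 : H ≤ ⊥ := fun y hy => Submodule.disjoint_def.mp hdisj y hy (le_sSup h hy)
    have := hind.1
    obtain ⟨x, hx⟩ := exists_ne (0 : H)
    exact hx (Subtype.ext (h0 x.2))
  refine hHs ?_
  have hins : insert H s ∈ S := by
    refine ⟨fun E hE => ?_, ?_⟩
    · rcases hE with rfl | hE
      · exact hdisj.mono_right (sSup_le_sSup fun x hx => hx.1.resolve_left hx.2)
      · have hne' : H ≠ E := fun h => hHs (h ▸ hE)
        rw [Set.insert_sdiff_of_notMem _ (by simpa using hne'), sSup_insert]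
        have h1 : sSup (s \ {E}) ≤ sSup s := sSup_le_sSup Set.sdiff_subset
        exact ((hs.prop.1 hE).disjoint_sup_right_of_disjoint_sup_left
          (hdisj.symm.mono_left (sup_le (le_sSup hE) h1))).mono_right (sup_comm _ _).le
    · rintro E (rfl | hE)
      · exact ⟨hind, hH.isInjective⟩
      · exact hs.prop.2 E hE
  exact hs.le_of_ge hins (Set.subset_insert _ _) (Set.mem_insert _ _)

end Groth.Agent.InjHullBasic
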